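import Mathlib
import Groth.Agent.LCIGen.Basic
import Groth.Agent.FibDepth.AssFib
import Groth.Agent.LocalCrit.Criterion
import Groth.Agent.CMChart.Scheme

/-!
# Flat local complete intersections that are generically smooth on the fibres have no `H_1` of the cotangent complex
-/

set_option autoImplicit false
set_option linter.style.haveILetI false
set_option backward.isDefEq.respectTransparency false
set_option maxHeartbeats 2000000
set_option synthInstance.maxHeartbeats 200000

universe u

namespace Groth.Agent.LCIGenRel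

open IsLocalRing TensorProduct

/-- An element killed off every associated prime vanishes. -/
theorem eq_zero_of_forall_ass {R : Type u} [CommRing R] [IsNoetherianRing R] (x : R)
    (h : ∀ q : Ideal R, q.IsPrime → q ∈ associatedPrimes R R → ∃ s, s ∉ q ∧ s * x = 0) : x = 0 := by
  by_contra hx
  obtain ⟨P, hP, hle⟩ := exists_le_isAssociatedPrime_of_isNoetherianRing (R := R) x hx
  obtain ⟨s, hs, hsx⟩ := h P hP.isPrime hP
  exact hs (hle (Submodule.mem_colon_singleton.mpr (by simpa using hsx)))

/-- An element regular on the closed fibre of a flat local algebra is regular. -/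
theorem isSMulRegular_of_closedFibre {R M : Type u} [CommRing R] [IsLocalRing R] [IsNoetherianRing R]
    [CommRing M] [IsLocalRing M] [IsNoetherianRing M] [Algebra R M] [IsLocalHom (algebraMap R M)]
    [Module.Flat R M] (x : M) (hx : IsSMulRegular (M ⧸ (maximalIdeal R).map (algebraMap R M))
      (Ideal.Quotient.mk ((maximalIdeal R).map (algebraMap R M)) x)) : IsSMulRegular M x := by
  let u : M →ₗ[R] M := (LinearMap.mulLeft R x)
  have key : ∀ z, u z ∈ maximalIdeal R • (⊤ : Submodule R M) → z ∈ maximalIdeal R • (⊤ : Submodule R M) := by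
    intro z hz
    rw [Ideal.smul_top_eq_map, Submodule.restrictScalars_mem] at hz ⊢
    rw [← Ideal.Quotient.eq_zero_iff_mem] at hz ⊢
    exact hx.right_eq_zero_of_smul (by rw [smul_eq_mul, ← map_mul]; exact hz)
  exact (LocalCrit.injective_and_flat_of_residue_injective M u
    ((LocalCrit.quot_lTensor_injective_iff (maximalIdeal R) u).2 key)).1

/-- The local ring of a fibre as a quotient of the local ring. -/
noncomputable def fiberLocEquiv {A B : Type u} [CommRing A] [CommRing B] [Algebra A B] (q : Ideal A) [q.IsPrime]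
    (Y : Ideal (q.Fiber B)) [Y.IsPrime] (P : Ideal B) [P.IsPrime]
    (h : Y.comap (Algebra.TensorProduct.includeRight : B →ₐ[A] q.Fiber B) = P) :
    Localization.AtPrime Y ≃+* Localization.AtPrime P ⧸ (q.map (algebraMap A B)).map (algebraMap B (Localization.AtPrime P)) := by
  subst h
  exact (Ideal.Fiber.algEquivAux₂ q Y).toRingEquiv

/-- Associated primes of a flat algebra with Gorenstein fibres are minimal in their fibres. -/
theorem eq_of_le_of_gorenstein_fibres (A B : Type u) [CommRing A] [IsNoetherianRing A] [CommRing B]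
    [IsNoetherianRing B] [Algebra A B] [Module.Flat A B] [Algebra.FiniteType A B]
    (hG : ∀ (q : Ideal A) [q.IsPrime], LocCoh.IsGorensteinRing (q.Fiber B)) (P : Ideal B) [P.IsPrime]
    (hP : P ∈ associatedPrimes B B) (Q : Ideal B) [Q.IsPrime] (hle : Q ≤ P)
    (heq : Q.comap (algebraMap A B) = P.comap (algebraMap A B)) : Q = P := by
  classical
  by_contra hne
  let q := P.comap (algebraMap A B)
  haveI : q.IsPrime := Ideal.IsPrime.comap _
  obtain ⟨Y, hYp, hYP⟩ : ∃ (Y : Ideal (q.Fiber B)) (_ : Y.IsPrime),
      Y.comap (Algebra.TensorProduct.includeRight : B →ₐ[A] q.Fiber B) = P :=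
    ⟨(PrimeSpectrum.preimageEquivFiber A B ⟨q, inferInstance⟩ ⟨⟨P, inferInstance⟩, rfl⟩).asIdeal, inferInstance,
      congrArg (fun z => z.1.asIdeal)
        ((PrimeSpectrum.preimageEquivFiber A B ⟨q, inferInstance⟩).symm_apply_apply ⟨⟨P, inferInstance⟩, rfl⟩)⟩
  haveI : IsNoetherianRing (q.Fiber B) := Algebra.FiniteType.isNoetherianRing q.ResidueField _
  haveI := hG q
  haveI := (hG q).isGorensteinLocalRing_localization Y
  haveI hCM := Goren.isCohenMacaulay (Localization.AtPrime Y)
  -- the local ring and its closed fibre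
  haveI : P.LiesOver q := ⟨rfl⟩
  letI := Localization.AtPrime.algebraOfLiesOver q P
  let Aq := Localization.AtPrime q
  let M := Localization.AtPrime P
  haveI : IsLocalHom (algebraMap Aq M) := by
    rw [Localization.AtPrime.IsLiesOverAlgebra.algebraMap_eq (p := q) (P := P)]
    infer_instance
  haveI : Module.Flat A M := Module.Flat.trans A B M
  haveI : Module.Flat Aq M := inferInstance
  set J := (maximalIdeal Aq).map (algebraMap Aq M)
  have hJ : J = (q.map (algebraMap A B)).map (algebraMap B M) := by
    change (maximalIdeal Aq).map (algebraMap Aq M) = _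
    rw [← Localization.AtPrime.map_eq_maximalIdeal, Ideal.map_map, Ideal.map_map,
      ← IsScalarTower.algebraMap_eq, ← IsScalarTower.algebraMap_eq]
  have hJle : J ≤ maximalIdeal M := ((local_hom_TFAE (algebraMap Aq M)).out 0 2 rfl rfl).1 inferInstance
  haveI : Nontrivial (M ⧸ J) :=
    Ideal.Quotient.nontrivial_iff.2 fun h => (maximalIdeal.isMaximal M).ne_top (top_le_iff.1 (h ▸ hJle))
  haveI : IsLocalRing (M ⧸ J) := IsLocalRing.of_surjective' (Ideal.Quotient.mk J) Ideal.Quotient.mk_surjective
  -- the closed point of the fibre is not associated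
  have hcase : ∀ (L : Type u) [CommRing L] [Algebra B L] [IsLocalization.AtPrime L P],
      (q.map (algebraMap A B)).map (algebraMap B L) ≤ Q.map (algebraMap B L) := fun L _ _ _ => by
    refine Ideal.map_mono (Ideal.map_le_iff_le_comap.2 ?_)
    exact heq.ge
  have hQp : (Q.map (algebraMap B M)).IsPrime :=
    IsLocalization.isPrime_of_isPrime_disjoint P.primeCompl M Q inferInstance
      (Set.disjoint_left.2 fun a ha ha' => ha (hle ha'))
  have hQu : (Q.map (algebraMap B M)).comap (algebraMap B M) = Q :=
    IsLocalization.under_map_of_isPrime_disjoint P.primeCompl M inferInstance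
      (Set.disjoint_left.2 fun a ha ha' => ha (hle ha'))
  have hnmin : maximalIdeal (M ⧸ J) ∉ minimalPrimes (M ⧸ J) := by
    intro hmin
    have hJQ : J ≤ Q.map (algebraMap B M) := hJ ▸ hcase M
    haveI hp : ((Q.map (algebraMap B M)).map (Ideal.Quotient.mk J)).IsPrime := Ideal.isPrime_map_quotientMk_of_isPrime hJQ
    have h1 : maximalIdeal (M ⧸ J) ≤ (Q.map (algebraMap B M)).map (Ideal.Quotient.mk J) :=
      hmin.2 ⟨hp, bot_le⟩ (le_maximalIdeal hp.ne_top)
    refine hne (le_antisymm hle fun b hb => ?_)
    rw [← hQu, Ideal.mem_comap, ← Ideal.mem_quotient_iff_mem hJQ]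
    refine h1 ?_
    rw [mem_maximalIdeal]
    intro hu
    haveI := IsLocalHom.of_surjective (Ideal.Quotient.mk J) Ideal.Quotient.mk_surjective
    exact (IsLocalization.AtPrime.to_map_mem_maximal_iff M P b).2 hb
      (IsLocalHom.map_nonunit (f := Ideal.Quotient.mk J) _ hu)
  have hloc : ∀ (I : Ideal M), I = (q.map (algebraMap A B)).map (algebraMap B M) →
      LocCoh.IsCohenMacaulayLocalRing (M ⧸ I) := by
    intro I hI
    subst hI
    have e₂ := fiberLocEquiv q Y P hYP
    exact CMChart.isCohenMacaulayLocalRing_of_ringEquiv e₂ hCM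
  haveI : LocCoh.IsCohenMacaulayLocalRing (M ⧸ J) := hloc J hJ
  have hnass : ¬ IsAssociatedPrime (maximalIdeal (M ⧸ J)) (M ⧸ J) := fun h =>
    hnmin (CMFlat.associatedPrimes_subset_minimalPrimes _ h)
  obtain ⟨x, hxm, hxreg⟩ := (Goren.depth_pos_iff_exists (M ⧸ J)).1
    (pos_iff_ne_zero.2 fun h => hnass ((FibDepth.isAssociatedPrime_maximalIdeal_iff _).2 h))
  obtain ⟨x, rfl⟩ := Ideal.Quotient.mk_surjective x
  have hxM : x ∈ maximalIdeal M := fun hu => hxm (hu.map (Ideal.Quotient.mk J))
  have hreg : IsSMulRegular M x := isSMulRegular_of_closedFibre x hxreg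
  have hPM : maximalIdeal M ∈ associatedPrimes M M := by
    rw [← Module.associatedPrimes.preimage_comap_associatedPrimes_eq_associatedPrimes_of_isLocalizedModule
      P.primeCompl M (Algebra.linearMap B M), Set.mem_preimage]
    rwa [show (maximalIdeal M).comap (algebraMap B M) = P from Localization.AtPrime.under_maximalIdeal]
  have : x ∈ ⋃ p ∈ associatedPrimes M M, (p : Set M) := Set.mem_biUnion hPM hxM
  rw [biUnion_associatedPrimes_eq_compl_regular] at this
  exact this hreg

/-- Associated primes of a flat algebra with Cohen-Macaulay fibres are minimal in their fibres. -/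
theorem eq_of_le_of_mem_associatedPrimes (A B : Type u) [CommRing A] [IsNoetherianRing A] [CommRing B]
    [IsNoetherianRing B] [Algebra A B] [Module.Flat A B] (hlci : LCI.IsLCI A B) (P : Ideal B) [P.IsPrime]
    (hP : P ∈ associatedPrimes B B) (Q : Ideal B) [Q.IsPrime] (hle : Q ≤ P)
    (heq : Q.comap (algebraMap A B) = P.comap (algebraMap A B)) : Q = P := by
  haveI := hlci.1
  exact eq_of_le_of_gorenstein_fibres A B (fun q _ => Goren.isGorensteinRing_fibre A B hlci q.ResidueField) P hP Q hle heq

end Groth.Agent.LCIGenRel
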