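import Mathlib
import Groth.Agent.LCIGenRel.Basic

/-!
# No `H_1` of the cotangent complex when the associated primes are formally smooth
-/

set_option autoImplicit false
set_option linter.style.haveILetI false
set_option backward.isDefEq.respectTransparency.types false

universe u

namespace Groth.Agent.LCIGenRel

open IsLocalRing

/-- The conormal element killed off every minimal prime lies in the square of the ideal near a prime. -/
theorem exists_mul_mem_sq {P A : Type u} [CommRing P] [CommRing A] (f : P →+* A) (hf : Function.Surjective f)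
    [IsNoetherianRing A] (M : Ideal A) [M.IsPrime]
    {r : ℕ} (F : Fin r → Localization.AtPrime (M.comap f)) (hF : CAlgX.IsH1Regular F)
    (hspan : (RingHom.ker f).map (algebraMap P (Localization.AtPrime (M.comap f))) = Ideal.span (Set.range F))
    (z : P) (hz : z ∈ RingHom.ker f)
    (h : ∀ m : Ideal A, m.IsPrime → m ∈ associatedPrimes A A → ∃ s : P, f s ∉ m ∧ s * z ∈ RingHom.ker f ^ 2) :
    ∃ t : P, f t ∉ M ∧ t * z ∈ RingHom.ker f ^ 2 := by
  classical
  let I := RingHom.ker f
  let p := M.comap f
  let Rp := Localization.AtPrime p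
  let J : Ideal Rp := I.map (algebraMap P Rp)
  have hJ : J = Ideal.span (Set.range F) := hspan
  have hFJ : ∀ i, F i ∈ J := fun i => hJ ▸ Ideal.subset_span ⟨i, rfl⟩
  obtain ⟨c, hc⟩ := Ideal.mem_span_range_iff_exists_fun.mp (hJ.le (Ideal.mem_map_of_mem (algebraMap P Rp) hz))
  have hcJ : ∀ i, c i ∈ J := by
    intro i
    obtain ⟨a, u, hau⟩ := IsLocalization.exists_mk'_eq p.primeCompl (c i)
    rw [← hau, IsLocalization.mk'_mem_iff]
    suffices h0 : algebraMap A (Localization.AtPrime M) (f a) = 0 by
      obtain ⟨⟨v, hv⟩, hva⟩ := (IsLocalization.map_eq_zero_iff M.primeCompl _ _).mp h0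
      obtain ⟨v, rfl⟩ := hf v
      refine (IsLocalization.algebraMap_mem_map_algebraMap_iff p.primeCompl Rp _ _).mpr ⟨v, hv, ?_⟩
      rw [RingHom.mem_ker, map_mul]
      exact hva
    refine eq_zero_of_forall_ass _ fun q hq hqass => ?_
    let m := q.comap (algebraMap A (Localization.AtPrime M))
    haveI : m.IsPrime := Ideal.IsPrime.comap _
    have hm : m ∈ associatedPrimes A A := by
      rw [← Module.associatedPrimes.preimage_comap_associatedPrimes_eq_associatedPrimes_of_isLocalizedModule
        M.primeCompl (Localization.AtPrime M) (Algebra.linearMap A (Localization.AtPrime M))] at hqass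
      exact hqass
    obtain ⟨s, hsm, hsz⟩ := h m inferInstance hm
    refine ⟨algebraMap A (Localization.AtPrime M) (f s), hsm, ?_⟩
    have h1 : algebraMap P Rp (s * z) ∈ Ideal.span (Set.range F) * J := by
      rw [← hJ, ← Ideal.map_mul, ← sq]
      exact Ideal.mem_map_of_mem _ hsz
    obtain ⟨d, hd, hdz⟩ : ∃ d : Fin r → Rp, (∀ j, d j ∈ J) ∧ ∑ j, d j * F j = algebraMap P Rp (s * z) := by
      have key : ∀ w ∈ Ideal.span (Set.range F) * J, ∃ d : Fin r → Rp, (∀ j, d j ∈ J) ∧ ∑ j, d j * F j = w := by
        intro w hw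
        induction hw using Submodule.mul_induction_on' with
        | mem_mul_mem x hx y hy =>
          obtain ⟨e, he⟩ := Ideal.mem_span_range_iff_exists_fun.mp hx
          exact ⟨fun j => e j * y, fun j => J.mul_mem_left _ hy, by
            rw [← he, Finset.sum_mul]; exact Finset.sum_congr rfl fun j _ => by ring⟩
        | add x _ y _ hx hy =>
          obtain ⟨e, he, hex⟩ := hx
          obtain ⟨e', he', hey⟩ := hy
          exact ⟨e + e', fun j => add_mem (he j) (he' j), by
            simp only [Pi.add_apply, add_mul, Finset.sum_add_distrib, hex, hey]⟩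
      exact key _ h1
    have hrel : ∑ j, (algebraMap P Rp s * c j - d j) * F j = 0 := by
      simp only [sub_mul, Finset.sum_sub_distrib, hdz, mul_assoc, ← Finset.mul_sum, hc, map_mul, sub_self]
    have htriv : ∀ v ∈ Submodule.span Rp {v : Fin r → Rp | ∃ i j, v = Pi.single i (F j) - Pi.single j (F i)},
        ∀ l, v l ∈ J := by
      intro v hv
      induction hv using Submodule.span_induction with
      | mem v hv =>
        obtain ⟨i, j, rfl⟩ := hv
        intro l
        rw [Pi.sub_apply, Pi.single_apply, Pi.single_apply]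
        refine sub_mem ?_ ?_ <;> split <;> first | exact hFJ _ | exact zero_mem _
      | zero => exact fun l => zero_mem _
      | add x y _ _ hx hy => exact fun l => add_mem (hx l) (hy l)
      | smul a x _ hx => exact fun l => J.mul_mem_left _ (hx l)
    have h3 : algebraMap P Rp s * c i ∈ J := by
      have := add_mem (htriv _ (hF _ hrel) i) (hd i)
      simpa using this
    rw [← hau, IsLocalization.mul_mk'_eq_mk'_of_mul, IsLocalization.mk'_mem_iff] at h3
    obtain ⟨v, hv, hva⟩ := (IsLocalization.algebraMap_mem_map_algebraMap_iff p.primeCompl Rp _ _).mp h3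
    rw [RingHom.mem_ker, map_mul, map_mul] at hva
    rw [← map_mul]
    exact (IsLocalization.map_eq_zero_iff M.primeCompl _ _).mpr ⟨⟨f v, hv⟩, hva⟩
  have hz2 : algebraMap P Rp z ∈ (I ^ 2).map (algebraMap P Rp) := by
    rw [Ideal.map_pow, sq, ← hc]
    exact sum_mem fun i _ => Ideal.mul_mem_mul (hcJ i) (hFJ i)
  obtain ⟨t, ht, htz⟩ := (IsLocalization.algebraMap_mem_map_algebraMap_iff p.primeCompl Rp _ _).mp hz2
  exact ⟨t, ht, htz⟩

theorem subsingleton_h1Cotangent (k : Type u) [CommRing k] [IsNoetherianRing k] (A : Type u) [CommRing A]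
    [Algebra k A] (hlci : LCI.IsLCI k A)
    (hgs : ∀ (p : Ideal A) [p.IsPrime], p ∈ associatedPrimes A A → Algebra.FormallySmooth k (Localization.AtPrime p)) :
    Subsingleton (Algebra.H1Cotangent k A) := by
  classical
  haveI : IsNoetherianRing A := by
    haveI := hlci.1
    exact Algebra.FiniteType.isNoetherianRing k A
  obtain ⟨-, n, f, hf, hI⟩ := hlci
  let Q := Algebra.Generators.ofAlgHom f hf
  let E := Q.toExtension
  have hker : E.ker = RingHom.ker f.toRingHom := Algebra.Generators.ker_ofAlgHom f hf
  have halg : ∀ a : MvPolynomial (Fin n) k, algebraMap E.Ring A a = f a := fun a => by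
    change MvPolynomial.aeval (f ∘ MvPolynomial.X) a = f a
    rw [← MvPolynomial.aeval_unique]
  suffices h : ∀ x : E.H1Cotangent, x = 0 by
    haveI : Subsingleton E.H1Cotangent := ⟨fun a b => (h a).trans (h b).symm⟩
    exact Q.equivH1Cotangent.symm.injective.subsingleton
  intro x
  obtain ⟨w, hzx⟩ := Algebra.Extension.Cotangent.mk_surjective x.1
  let z : MvPolynomial (Fin n) k := w.1
  have hz : z ∈ RingHom.ker f.toRingHom := hker.le w.2
  have hsmul : ∀ t : MvPolynomial (Fin n) k, f t • x = 0 ↔ t * z ∈ RingHom.ker f.toRingHom ^ 2 := fun t => by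
    rw [← map_eq_zero_iff Algebra.Extension.h1Cotangentι Algebra.Extension.h1Cotangentι_injective, map_smul,
      show Algebra.Extension.h1Cotangentι x = x.1 from rfl, ← hzx, ← halg, algebraMap_smul, ← map_smul,
      Algebra.Extension.Cotangent.mk_eq_zero_iff]
    exact Iff.of_eq (congrArg (fun I : Ideal (MvPolynomial (Fin n) k) => t * z ∈ I ^ 2) hker)
  by_contra hx
  let ann : Ideal A := LinearMap.ker (LinearMap.toSpanSingleton A E.H1Cotangent x)
  have hann : ∀ a, a ∈ ann ↔ a • x = 0 := fun a => Iff.rfl
  obtain ⟨M, hM, hle⟩ := ann.exists_le_maximal fun h => hx (by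
    have := (hann 1).mp (h ▸ trivial)
    rwa [one_smul] at this)
  haveI := hM.isPrime
  have hmin : ∀ m : Ideal A, m.IsPrime → m ∈ associatedPrimes A A →
      ∃ s : MvPolynomial (Fin n) k, f.toRingHom s ∉ m ∧ s * z ∈ RingHom.ker f.toRingHom ^ 2 := by
    intro m hm hmm
    haveI := hgs m hmm
    haveI : Subsingleton (Algebra.H1Cotangent k (Localization.AtPrime m)) :=
      Algebra.FormallySmooth.subsingleton_h1Cotangent
    obtain ⟨⟨a, ha⟩, hax⟩ := (IsLocalizedModule.eq_zero_iff m.primeCompl
      (Algebra.H1Cotangent.map k k A (Localization.AtPrime m))).mp (Subsingleton.elim _ 0 :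
        Algebra.H1Cotangent.map k k A (Localization.AtPrime m) (Q.equivH1Cotangent x) = 0)
    obtain ⟨s, rfl⟩ := hf a
    refine ⟨s, ha, (hsmul s).mp (Q.equivH1Cotangent.injective ?_)⟩
    rw [map_smul, map_zero]
    exact hax
  let P := MvPolynomial (Fin n) k
  let p := M.comap f.toRingHom
  have hle' : RingHom.ker f.toRingHom ≤ p := fun c hc => by
    show f.toRingHom c ∈ M
    rw [RingHom.mem_ker.mp hc]; exact zero_mem _
  obtain ⟨g, hg, l, hl, hspan⟩ := hI ⟨p, inferInstance⟩ hle'
  let Rp := Localization.AtPrime p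
  let T := Localization.Away g
  have hMp : Submonoid.powers g ≤ p.primeCompl := Submonoid.powers_le.mpr hg
  have hu : ∀ y : Submonoid.powers g, IsUnit (algebraMap P Rp y) := fun y =>
    IsLocalization.map_units (M := p.primeCompl) Rp ⟨y, hMp y.2⟩
  letI : Algebra T Rp := (IsLocalization.lift (S := T) hu).toAlgebra
  haveI : IsScalarTower P T Rp := IsScalarTower.of_algebraMap_eq fun r => (IsLocalization.lift_eq hu r).symm
  haveI := IsLocalization.isLocalization_of_submonoid_le T Rp (Submonoid.powers g) p.primeCompl hMp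
  have hH1 := KoszulLib.h1_localization (p.primeCompl.map (algebraMap P T)) Rp (SyntLib.h1_of_koszul hl)
  obtain ⟨t, ht, htz⟩ := exists_mul_mem_sq f.toRingHom hf M
    _ hH1 (by
      rw [IsScalarTower.algebraMap_eq P T Rp, ← Ideal.map_map, hspan, Ideal.map_span, Goren.range_list_get l |>.symm,
        ← Set.range_comp])
    z hz hmin
  exact ht (hle ((hann _).mpr ((hsmul t).mpr htz)))

end Groth.Agent.LCIGenRel
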