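import Mathlib
import Groth.Agent.LCIGenRel.Basic

/-!
# `Ext¹` from a two term projective resolution, and its base change to a quotient
-/

set_option autoImplicit false
set_option linter.style.haveILetI false
set_option maxHeartbeats 1000000

universe u

namespace Groth.Agent.LCIGenRel

open CategoryTheory CategoryTheory.Abelian TensorProduct

section Ext

variable {R : Type u} [CommRing R] {C F N : Type u} [AddCommGroup C] [Module R C] [AddCommGroup F] [Module R F]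
  [AddCommGroup N] [Module R N]

/-- `Ext¹(N, R)` is the cokernel of the dual of the first map of a resolution. -/
theorem exists_extOne_surjective (d : C →ₗ[R] F) (g : F →ₗ[R] N) (hd : Function.Injective d)
    (hg : Function.Surjective g) (he : Function.Exact d g) [Module.Projective R F] :
    ∃ δ : (C →ₗ[R] R) →ₗ[R] Ext.{u} (ModuleCat.of R N) (ModuleCat.of R R) 1,
      Function.Surjective δ ∧ LinearMap.ker δ = LinearMap.range (LinearMap.lcomp R R d) := by
  let S : ShortComplex (ModuleCat.{u} R) := ShortComplex.mk (ModuleCat.ofHom d) (ModuleCat.ofHom g) (by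
    ext x; exact he.apply_apply_eq_zero x)
  have hS : S.ShortExact :=
    { exact := (ShortComplex.ShortExact.moduleCat_exact_iff_function_exact S).2 he
      mono_f := (ModuleCat.mono_iff_injective _).2 hd
      epi_g := (ModuleCat.epi_iff_surjective _).2 hg }
  haveI : Projective S.X₂ := inferInstanceAs (Projective (ModuleCat.of R F))
  let δ : (C →ₗ[R] R) →ₗ[R] Ext.{u} (ModuleCat.of R N) (ModuleCat.of R R) 1 :=
    { toFun := fun φ => hS.extClass.comp (Ext.mk₀ (ModuleCat.ofHom φ : S.X₁ ⟶ ModuleCat.of R R)) (add_zero 1)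
      map_add' := fun φ ψ => by rw [ModuleCat.ofHom_add, Ext.mk₀_add, Ext.comp_add]
      map_smul' := fun r φ => by
        rw [RingHom.id_apply, show (ModuleCat.ofHom (r • φ) : S.X₁ ⟶ ModuleCat.of R R) =
          r • ModuleCat.ofHom φ from rfl, Ext.mk₀_smul, Ext.comp_smul] }
  refine ⟨δ, fun x => ?_, ?_⟩
  · obtain ⟨x₁, hx₁⟩ := Ext.contravariant_sequence_exact₃ hS (ModuleCat.of R R) x
      (Ext.eq_zero_of_projective _) (n₀ := 0) rfl
    obtain ⟨φ, rfl⟩ := (Ext.mk₀_bijective S.X₁ (ModuleCat.of R R)).2 x₁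
    exact ⟨φ.hom, hx₁⟩
  · ext φ
    rw [LinearMap.mem_ker, LinearMap.mem_range]
    constructor
    · intro hφ
      obtain ⟨x₂, hx₂⟩ := Ext.contravariant_sequence_exact₁ hS (ModuleCat.of R R)
        (Ext.mk₀ (ModuleCat.ofHom φ : S.X₁ ⟶ ModuleCat.of R R)) (n₁ := 1) rfl hφ
      obtain ⟨ψ, rfl⟩ := (Ext.mk₀_bijective S.X₂ (ModuleCat.of R R)).2 x₂
      rw [Ext.mk₀_comp_mk₀] at hx₂
      exact ⟨ψ.hom, congrArg ModuleCat.Hom.hom ((Ext.mk₀_bijective S.X₁ (ModuleCat.of R R)).1 hx₂)⟩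
    · rintro ⟨ψ, rfl⟩
      change hS.extClass.comp (Ext.mk₀ (ModuleCat.ofHom (ψ ∘ₗ d) : S.X₁ ⟶ ModuleCat.of R R)) (add_zero 1) = 0
      rw [show (ModuleCat.ofHom (ψ ∘ₗ d) : S.X₁ ⟶ ModuleCat.of R R) =
        S.f ≫ (ModuleCat.ofHom ψ : S.X₂ ⟶ ModuleCat.of R R) from rfl, ← Ext.mk₀_comp_mk₀]
      exact hS.extClass_comp_assoc _

end Ext

section BaseChange

variable {R : Type u} [CommRing R] (I : Ideal R) {C F N : Type u} [AddCommGroup C] [Module R C]
  [AddCommGroup F] [Module R F] [AddCommGroup N] [Module R N]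

/-- A functional with values in an ideal is in the multiple of the dual by the ideal. -/
theorem mem_smul_dual_of_forall_mem [Module.Finite R C] [Module.Projective R C] (φ : C →ₗ[R] R)
    (h : ∀ x, φ x ∈ I) : φ ∈ I • (⊤ : Submodule R (C →ₗ[R] R)) := by
  classical
  obtain ⟨n, q, hq⟩ := Module.Finite.exists_fin' R C
  obtain ⟨s, hs⟩ := Module.projective_lifting_property q LinearMap.id hq
  have : φ = ∑ i, φ (q (Pi.single i 1)) • (LinearMap.proj i ∘ₗ s) := by
    ext x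
    conv_lhs => rw [show x = q (s x) from (LinearMap.congr_fun hs x).symm, pi_eq_sum_univ' (s x), map_sum, map_sum]
    simp [mul_comm]
  rw [this]
  exact Submodule.sum_mem _ fun i _ => Submodule.smul_mem_smul (h _) Submodule.mem_top

/-- Base change of the cokernel of the dual map to a quotient ring. -/
theorem nonempty_ext_baseChange (d : C →ₗ[R] F) (g : F →ₗ[R] N) (hd : Function.Injective d)
    (hg : Function.Surjective g) (he : Function.Exact d g) [Module.Projective R F] [Module.Finite R C]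
    [Module.Projective R C] (N' : Type u) [AddCommGroup N'] [Module (R ⧸ I) N']
    (e : (R ⧸ I) ⊗[R] N ≃ₗ[R ⧸ I] N') (hd' : Function.Injective (d.baseChange (R ⧸ I))) :
    Nonempty (((R ⧸ I) ⊗[R] Ext.{u} (ModuleCat.of R N) (ModuleCat.of R R) 1) ≃ₗ[R ⧸ I]
      Ext.{u} (ModuleCat.of (R ⧸ I) N') (ModuleCat.of (R ⧸ I) (R ⧸ I)) 1) := by
  classical
  obtain ⟨δ, hδ, hker⟩ := exists_extOne_surjective d g hd hg he
  have hg' : Function.Surjective (e.toLinearMap ∘ₗ g.baseChange (R ⧸ I)) := by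
    rw [LinearMap.coe_comp]
    exact e.surjective.comp (LinearMap.lTensor_surjective (R ⧸ I) hg)
  have he' : Function.Exact (d.baseChange (R ⧸ I)) (e.toLinearMap ∘ₗ g.baseChange (R ⧸ I)) := by
    have h := lTensor_exact (R ⧸ I) he hg
    intro y
    rw [LinearMap.comp_apply, LinearEquiv.coe_coe, LinearEquiv.map_eq_zero_iff]
    exact h y
  obtain ⟨δ', hδ', hker'⟩ := exists_extOne_surjective (d.baseChange (R ⧸ I))
    (e.toLinearMap ∘ₗ g.baseChange (R ⧸ I)) hd' hg' he'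
  let E' := ((R ⧸ I) ⊗[R] C →ₗ[R ⧸ I] R ⧸ I) ⧸ LinearMap.range (LinearMap.lcomp (R ⧸ I) (R ⧸ I) (d.baseChange (R ⧸ I)))
  let e' : E' ≃ₗ[R ⧸ I] Ext.{u} (ModuleCat.of (R ⧸ I) N') (ModuleCat.of (R ⧸ I) (R ⧸ I)) 1 :=
    (Submodule.quotEquivOfEq _ _ hker'.symm).trans (δ'.quotKerEquivOfSurjective hδ')
  obtain ⟨T, hT⟩ : ∃ T : (C →ₗ[R] R) →ₗ[R] ((R ⧸ I) ⊗[R] C →ₗ[R ⧸ I] R ⧸ I),
      ∀ φ a x, T φ (a ⊗ₜ x) = a * algebraMap R (R ⧸ I) (φ x) :=
    ⟨((LinearMap.liftBaseChangeEquiv (R ⧸ I)).toLinearMap.restrictScalars R) ∘ₗ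
      LinearMap.llcomp R C R (R ⧸ I) (Algebra.linearMap R (R ⧸ I)), fun φ a x => by
      change LinearMap.liftBaseChange (R ⧸ I) ((Algebra.linearMap R (R ⧸ I)) ∘ₗ φ) (a ⊗ₜ x) = _
      simp⟩
  have hTs : Function.Surjective T := fun φ' => by
    obtain ⟨φ, hφ⟩ := Module.projective_lifting_property (Algebra.linearMap R (R ⧸ I))
      ((φ'.restrictScalars R) ∘ₗ (TensorProduct.mk R (R ⧸ I) C 1)) Ideal.Quotient.mk_surjective
    refine ⟨φ, ?_⟩
    ext x
    change T φ (1 ⊗ₜ x) = φ' (1 ⊗ₜ x)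
    rw [hT, one_mul]
    exact LinearMap.congr_fun hφ x
  let Φ : (C →ₗ[R] R) →ₗ[R] E' :=
    ((Submodule.mkQ _).restrictScalars R) ∘ₗ T
  have hΦs : Function.Surjective Φ := (Submodule.mkQ_surjective _).comp hTs
  have hΦ0 : ∀ φ, Φ φ = 0 ↔ ∃ ψ', ψ' ∘ₗ d.baseChange (R ⧸ I) = T φ := fun φ => by
    refine (Submodule.Quotient.mk_eq_zero
      (LinearMap.range (LinearMap.lcomp (R ⧸ I) (R ⧸ I) (d.baseChange (R ⧸ I))))).trans ?_
    rw [LinearMap.mem_range]
    exact exists_congr fun ψ' => Iff.rfl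
  have hΦker : LinearMap.ker Φ = LinearMap.range (LinearMap.lcomp R R d) ⊔ I • ⊤ := by
    refine le_antisymm (fun φ hφ => ?_) (sup_le ?_ ?_)
    · obtain ⟨ψ', hψ'⟩ := (hΦ0 φ).1 hφ
      obtain ⟨ψ, hψ⟩ := Module.projective_lifting_property (Algebra.linearMap R (R ⧸ I))
        ((ψ'.restrictScalars R) ∘ₗ (TensorProduct.mk R (R ⧸ I) F 1)) Ideal.Quotient.mk_surjective
      refine Submodule.mem_sup.2 ⟨ψ ∘ₗ d, ⟨ψ, rfl⟩, φ - ψ ∘ₗ d, mem_smul_dual_of_forall_mem I _ fun x => ?_, by abel⟩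
      have h1 := LinearMap.congr_fun hψ' (1 ⊗ₜ x)
      rw [hT, one_mul, LinearMap.comp_apply, LinearMap.baseChange_tmul] at h1
      have h2 : algebraMap R (R ⧸ I) (ψ (d x)) = ψ' (1 ⊗ₜ d x) := LinearMap.congr_fun hψ (d x)
      rw [← Ideal.Quotient.eq_zero_iff_mem, LinearMap.sub_apply, map_sub, sub_eq_zero,
        ← Ideal.Quotient.algebraMap_eq, LinearMap.comp_apply, h2, h1]
    · rintro _ ⟨ψ, rfl⟩
      refine (hΦ0 _).2 ⟨LinearMap.liftBaseChange (R ⧸ I) ((Algebra.linearMap R (R ⧸ I)) ∘ₗ ψ), ?_⟩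
      apply TensorProduct.AlgebraTensorModule.ext
      intro a x
      simp only [LinearMap.comp_apply, LinearMap.baseChange_tmul, hT, LinearMap.lcomp_apply,
        LinearMap.liftBaseChange_tmul, Algebra.linearMap_apply, smul_eq_mul]
    · refine Submodule.smul_le.2 fun r hr φ _ => ?_
      rw [LinearMap.mem_ker, map_smul, ← algebraMap_smul (R ⧸ I) r (Φ φ), Ideal.Quotient.algebraMap_eq,
        Ideal.Quotient.eq_zero_iff_mem.2 hr, zero_smul]
  have hle : LinearMap.ker δ ≤ LinearMap.ker Φ := by rw [hker, hΦker]; exact le_sup_left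
  let Ψ : Ext.{u} (ModuleCat.of R N) (ModuleCat.of R R) 1 →ₗ[R] E' :=
    (Submodule.liftQ (LinearMap.ker δ) Φ hle) ∘ₗ
      (δ.quotKerEquivOfSurjective hδ).symm.toLinearMap
  have hΨ : ∀ φ, Ψ (δ φ) = Φ φ := fun φ => by
    have : (δ.quotKerEquivOfSurjective hδ).symm (δ φ) = Submodule.Quotient.mk φ :=
      (δ.quotKerEquivOfSurjective hδ).symm_apply_eq.2 rfl
    change Submodule.liftQ (LinearMap.ker δ) Φ hle ((δ.quotKerEquivOfSurjective hδ).symm (δ φ)) = _
    rw [this]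
    rfl
  have hΨs : Function.Surjective Ψ := fun y => by
    obtain ⟨φ, rfl⟩ := hΦs y
    exact ⟨δ φ, hΨ φ⟩
  have hΨker : LinearMap.ker Ψ = I • ⊤ := by
    have htop : Submodule.map δ ⊤ = ⊤ := by rw [Submodule.map_top, LinearMap.range_eq_top.2 hδ]
    rw [← htop, ← Submodule.map_smul'']
    ext y
    obtain ⟨φ, rfl⟩ := hδ y
    rw [LinearMap.mem_ker, hΨ, ← LinearMap.mem_ker, hΦker, ← hker, ← Submodule.mem_comap,
      Submodule.comap_map_eq, sup_comm]
  let e₁ : ((R ⧸ I) ⊗[R] Ext.{u} (ModuleCat.of R N) (ModuleCat.of R R) 1) ≃ₗ[R] E' :=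
    (TensorProduct.quotTensorEquivQuotSMul _ I).trans
      ((Submodule.quotEquivOfEq _ _ hΨker.symm).trans (Ψ.quotKerEquivOfSurjective hΨs))
  exact ⟨(LinearEquiv.extendScalarsOfSurjective (S := R ⧸ I) Ideal.Quotient.mk_surjective e₁).trans e'⟩

end BaseChange

end Groth.Agent.LCIGenRel
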