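import Mathlib
import Groth.Agent.LCIGenRel.ExtOne
import Groth.Agent.LCIGenRel.Conormal
import Groth.Agent.Conormal.NLKer

/-!
# Base change of `T¹` of a flat local complete intersection with generically smooth fibres
-/

set_option autoImplicit false
set_option linter.style.haveILetI false
set_option maxHeartbeats 1000000
set_option synthInstance.maxHeartbeats 200000

universe u

namespace Groth.Agent.LCIGenRel

open TensorProduct

/-- A surjection onto a module which is projective at a prime splits near it. -/
theorem exists_section_away {R : Type u} [CommRing R] (p : Ideal R) [p.IsPrime] {F N : Type u} [AddCommGroup F]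
    [Module R F] [AddCommGroup N] [Module R N] [Module.FinitePresentation R N] (g : F →ₗ[R] N)
    (hg : Function.Surjective g) {Np : Type u} [AddCommGroup Np] [Module R Np] [Module (Localization.AtPrime p) Np]
    [IsScalarTower R (Localization.AtPrime p) Np] (fN : N →ₗ[R] Np) [IsLocalizedModule p.primeCompl fN]
    [Module.Projective (Localization.AtPrime p) Np] :
    ∃ s ∉ p, ∃ σ : N →ₗ[R] F, g ∘ₗ σ = s • LinearMap.id := by
  classical
  let fF := LocalizedModule.mkLinearMap p.primeCompl F
  let gp : LocalizedModule p.primeCompl F →ₗ[Localization.AtPrime p] Np :=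
    LinearMap.extendScalarsOfIsLocalization p.primeCompl (Localization.AtPrime p)
      (IsLocalizedModule.map p.primeCompl fF fN g)
  have hgp : ∀ x, gp (fF x) = fN (g x) := fun x => IsLocalizedModule.map_apply p.primeCompl fF fN g x
  have hsurj : Function.Surjective gp := IsLocalizedModule.map_surjective p.primeCompl fF fN g hg
  obtain ⟨τ, hτ⟩ := Module.projective_lifting_property gp LinearMap.id hsurj
  obtain ⟨σ, s, hσ⟩ := Module.FinitePresentation.exists_lift_of_isLocalizedModule p.primeCompl fF
    (τ.restrictScalars R ∘ₗ fN)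
  have h1 : fN ∘ₗ (g ∘ₗ σ - (s : R) • LinearMap.id) = 0 := LinearMap.ext fun n => by
    have h2 : fF (σ n) = (s : R) • τ (fN n) := LinearMap.congr_fun hσ n
    simp only [LinearMap.comp_apply, LinearMap.sub_apply, LinearMap.smul_apply, LinearMap.id_apply,
      LinearMap.zero_apply, map_sub, map_smul]
    rw [← hgp, h2, LinearMap.map_smul_of_tower, show gp (τ (fN n)) = fN n from LinearMap.congr_fun hτ (fN n), sub_self]
  obtain ⟨t, ht⟩ : ∃ t : p.primeCompl, ∀ n, (t : R) • (g (σ n) - (s : R) • n) = 0 := by
    obtain ⟨S, hS⟩ := (Module.Finite.fg_top (R := R) (M := N))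
    choose t ht using fun n : N => (IsLocalizedModule.eq_zero_iff p.primeCompl fN).1 (LinearMap.congr_fun h1 n)
    refine ⟨∏ n ∈ S, t n, fun n => ?_⟩
    have hn : n ∈ Submodule.span R (S : Set N) := hS ▸ Submodule.mem_top
    induction hn using Submodule.span_induction with
    | mem x hx =>
      rw [← Finset.prod_erase_mul _ _ hx, Submonoid.coe_mul, mul_smul]
      have h3 : (t x : R) • (g (σ x) - (s : R) • x) = 0 := ht x
      rw [h3, smul_zero]
    | zero => simp
    | add x y _ _ hx hy => rw [map_add, map_add, smul_add, add_sub_add_comm, smul_add, hx, hy, add_zero]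
    | smul a x _ hx => rw [map_smul, map_smul, smul_comm (s : R) a, ← smul_sub, smul_comm, hx, smul_zero]
  refine ⟨(t : R) * (s : R), fun hm => ((Ideal.IsPrime.mem_or_mem ‹_› hm).elim t.2 s.2), (t : R) • σ, ?_⟩
  ext n
  have := ht n
  rw [smul_sub, sub_eq_zero] at this
  simpa [mul_smul] using this

/-- An injective map with cokernel projective at a prime has a retraction near it. -/
theorem exists_retraction_away {R : Type u} [CommRing R] {C F N : Type u} [AddCommGroup C] [Module R C]
    [AddCommGroup F] [Module R F] [AddCommGroup N] [Module R N] (d : C →ₗ[R] F) (g : F →ₗ[R] N)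
    (hd : Function.Injective d) (he : Function.Exact d g) (s : R) (σ : N →ₗ[R] F)
    (hσ : g ∘ₗ σ = s • LinearMap.id) : ∃ r : F →ₗ[R] C, ∀ c, r (d c) = s • c := by
  have hmem : ∀ x, s • x - σ (g x) ∈ LinearMap.range d := fun x => by
    refine (he _).1 ?_
    rw [map_sub, map_smul, show g (σ (g x)) = s • g x from LinearMap.congr_fun hσ (g x), sub_self]
  refine ⟨(LinearEquiv.ofInjective d hd).symm.toLinearMap ∘ₗ
    (s • LinearMap.id - σ ∘ₗ g).codRestrict (LinearMap.range d) hmem, fun c => ?_⟩
  rw [LinearMap.comp_apply, LinearEquiv.coe_coe, LinearEquiv.symm_apply_eq]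
  ext
  rw [LinearMap.codRestrict_apply, LinearEquiv.ofInjective_apply, map_smul, LinearMap.sub_apply,
    LinearMap.comp_apply, he.apply_apply_eq_zero, map_zero, sub_zero, LinearMap.smul_apply, LinearMap.id_apply]

/-- Kaehler differentials of a quotient by an ideal coming from the base. -/
theorem nonempty_kaehler_quotient (A P : Type u) [CommRing A] [CommRing P] [Algebra A P] (J : Ideal A) :
    Nonempty (((P ⧸ J.map (algebraMap A P)) ⊗[P] KaehlerDifferential A P) ≃ₗ[P ⧸ J.map (algebraMap A P)]
      KaehlerDifferential A (P ⧸ J.map (algebraMap A P))) := by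
  have hs : Function.Surjective (algebraMap P (P ⧸ J.map (algebraMap A P))) := Ideal.Quotient.mk_surjective
  refine ⟨LinearEquiv.ofBijective (KaehlerDifferential.mapBaseChange A P (P ⧸ J.map (algebraMap A P)))
    ⟨(injective_iff_map_eq_zero _).2 fun z hz => ?_, KaehlerDifferential.mapBaseChange_surjective _ _ _ hs⟩⟩
  obtain ⟨w, rfl⟩ := (KaehlerDifferential.exact_kerCotangentToTensor_mapBaseChange A P _ hs z).1 hz
  obtain ⟨⟨x, hx⟩, rfl⟩ := Ideal.toCotangent_surjective _ w
  rw [KaehlerDifferential.kerCotangentToTensor_toCotangent]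
  have hx' : x ∈ J.map (algebraMap A P) := Ideal.Quotient.eq_zero_iff_mem.1 hx
  change (1 : P ⧸ J.map (algebraMap A P)) ⊗ₜ[P] KaehlerDifferential.D A P x = 0
  clear hz hx
  induction hx' using Submodule.span_induction with
  | mem y hy =>
    obtain ⟨j, -, rfl⟩ := hy
    rw [Derivation.map_algebraMap, TensorProduct.tmul_zero]
  | zero => rw [map_zero, TensorProduct.tmul_zero]
  | add a b _ _ ha hb => rw [map_add, TensorProduct.tmul_add, ha, hb, add_zero]
  | smul a b hbm hb =>
    rw [smul_eq_mul, Derivation.leibniz, TensorProduct.tmul_add, TensorProduct.tmul_smul, hb, smul_zero, zero_add,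
      TensorProduct.tmul_smul, ← algebraMap_smul (P ⧸ J.map (algebraMap A P)) b,
      Ideal.Quotient.algebraMap_eq,
      Ideal.Quotient.eq_zero_iff_mem.2 (show b ∈ J.map (algebraMap A P) from hbm), zero_smul]

/-- The Gorenstein fibres of a flat local complete intersection restricted over a closed subscheme of the base. -/
theorem gorenstein_fibres_quotient (A P : Type u) [CommRing A] [CommRing P] [Algebra A P] [Module.Flat A P]
    (hlci : LCI.IsLCI A P) (J : Ideal A) (q : Ideal (A ⧸ J)) [q.IsPrime] :
    LocCoh.IsGorensteinRing (q.Fiber (P ⧸ J.map (algebraMap A P))) := by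
  let e : (A ⧸ J) ⊗[A] P ≃ₐ[A ⧸ J] P ⧸ J.map (algebraMap A P) :=
    AlgEquiv.extendScalarsOfSurjective (R := A) Ideal.Quotient.mk_surjective
      (((Algebra.TensorProduct.quotIdealMapEquivTensorQuot P J).restrictScalars A).trans
        (Algebra.TensorProduct.comm A P (A ⧸ J))).symm
  exact Goren.isGorensteinRing_of_equiv _ _
    ((Algebra.TensorProduct.cancelBaseChange A (A ⧸ J) q.ResidueField q.ResidueField P).symm.trans
      (Algebra.TensorProduct.congr AlgEquiv.refl e)).toRingEquiv
    (Goren.isGorensteinRing_fibre A P hlci q.ResidueField)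

/-- `T¹` commutes with base change to a closed subscheme of the base. -/
theorem nonempty_tOne_baseChange (A : Type u) [CommRing A] [IsNoetherianRing A]
    (P : Type u) [CommRing P] [Algebra A P] [Module.Flat A P] (hlci : LCI.IsLCI A P)
    (hgs : ∀ 𝔓 : PrimeSpectrum P,
      (∀ 𝔔 : PrimeSpectrum P, 𝔔 ≤ 𝔓 →
          𝔔.asIdeal.comap (algebraMap A P) = 𝔓.asIdeal.comap (algebraMap A P) → 𝔔 = 𝔓) →
        𝔓 ∈ Algebra.smoothLocus A P)
    (J : Ideal A) :
    Nonempty
      ((P ⧸ J.map (algebraMap A P)) ⊗[P]
          CategoryTheory.Abelian.Ext.{u} (ModuleCat.of P (KaehlerDifferential A P)) (ModuleCat.of P P) 1 ≃ₗ[P ⧸ J.map (algebraMap A P)]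
        CategoryTheory.Abelian.Ext.{u}
          (ModuleCat.of (P ⧸ J.map (algebraMap A P)) (KaehlerDifferential A (P ⧸ J.map (algebraMap A P))))
          (ModuleCat.of (P ⧸ J.map (algebraMap A P)) (P ⧸ J.map (algebraMap A P))) 1) := by
  classical
  haveI := hlci.1
  haveI : IsNoetherianRing P := Algebra.FiniteType.isNoetherianRing A P
  haveI : Subsingleton (Algebra.H1Cotangent A P) := subsingleton_h1Cotangent A P hlci fun p hp hpass =>
    hgs ⟨p, hp⟩ fun 𝔔 hle heq => PrimeSpectrum.ext
      (eq_of_le_of_mem_associatedPrimes A P hlci p hpass 𝔔.asIdeal hle heq)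
  obtain ⟨n, ⟨G⟩⟩ := NLBC.exists_gen hlci.1
  obtain ⟨hCf, hCp⟩ := NLBC.finite_projective_cotangent G.toExtension (NLBC.kAt_generators hlci G)
  haveI := hCf
  haveI := hCp
  haveI : Module.Free P G.toExtension.CotangentSpace := Module.Free.of_basis G.cotangentSpaceBasis
  haveI : Module.Finite P G.toExtension.CotangentSpace := Module.Finite.of_basis G.cotangentSpaceBasis
  let d := G.toExtension.cotangentComplex
  have hd : Function.Injective d := by
    haveI : Subsingleton G.toExtension.H1Cotangent := G.equivH1Cotangent.injective.subsingleton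
    rw [injective_iff_map_eq_zero]
    intro c hc
    exact congrArg Subtype.val (@Subsingleton.elim G.toExtension.H1Cotangent ‹_› ⟨c, hc⟩ 0)
  let g := G.toExtension.toKaehler
  have he : Function.Exact d g := Algebra.Extension.exact_cotangentComplex_toKaehler
  have hg : Function.Surjective g := Algebra.Extension.toKaehler_surjective
  haveI : Algebra.FinitePresentation A P := Algebra.FinitePresentation.of_finiteType.mp inferInstance
  haveI : Module.FinitePresentation P (KaehlerDifferential A P) := Module.finitePresentation_of_finite _ _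
  obtain ⟨e⟩ := nonempty_kaehler_quotient A P J
  refine nonempty_ext_baseChange (J.map (algebraMap A P)) d g hd hg he _ e ?_
  -- injectivity after base change
  rw [injective_iff_map_eq_zero]
  intro x hx
  let P' := P ⧸ J.map (algebraMap A P)
  haveI : Module.Projective P' (P' ⊗[P] G.toExtension.Cotangent) := inferInstance
  refine (Module.forall_dual_apply_eq_zero_iff P' x).1 fun φ => eq_zero_of_forall_ass _ fun 𝔔 h𝔔 h𝔔ass => ?_
  haveI : IsNoetherianRing (A ⧸ J) := inferInstance
  haveI : Module.Flat (A ⧸ J) P' :=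
    Module.Flat.of_linearEquiv ((AlgEquiv.extendScalarsOfSurjective (R := A) Ideal.Quotient.mk_surjective
      (((Algebra.TensorProduct.quotIdealMapEquivTensorQuot P J).restrictScalars A).trans
        (Algebra.TensorProduct.comm A P (A ⧸ J))) : P' ≃ₐ[A ⧸ J] (A ⧸ J) ⊗[A] P)).toLinearEquiv
  haveI : Algebra.FiniteType A P' := Algebra.FiniteType.of_surjective (Ideal.Quotient.mkₐ A _) Ideal.Quotient.mk_surjective
  haveI : Algebra.FiniteType (A ⧸ J) P' := Algebra.FiniteType.of_restrictScalars_finiteType A _ _
  let 𝔓 : Ideal P := 𝔔.comap (Ideal.Quotient.mk (J.map (algebraMap A P)))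
  haveI : 𝔓.IsPrime := Ideal.IsPrime.comap _
  have hJ𝔓 : J.map (algebraMap A P) ≤ 𝔓 := fun a ha => by
    rw [Ideal.mem_comap, Ideal.Quotient.eq_zero_iff_mem.2 ha]; exact zero_mem _
  haveI hsm : Algebra.IsSmoothAt A 𝔓 := hgs ⟨𝔓, inferInstance⟩ fun 𝔔' hle heq => by
    have hJ' : J.map (algebraMap A P) ≤ 𝔔'.asIdeal := by
      rw [Ideal.map_le_iff_le_comap, heq]
      exact Ideal.map_le_iff_le_comap.1 hJ𝔓
    haveI : (𝔔'.asIdeal.map (Ideal.Quotient.mk (J.map (algebraMap A P)))).IsPrime :=
      Ideal.isPrime_map_quotientMk_of_isPrime hJ'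
    have h1 : 𝔔'.asIdeal.map (Ideal.Quotient.mk (J.map (algebraMap A P))) = 𝔔 := by
      refine eq_of_le_of_gorenstein_fibres (A ⧸ J) P' (fun q _ => gorenstein_fibres_quotient A P hlci J q) 𝔔
        h𝔔ass _ (Ideal.map_le_iff_le_comap.2 hle) ?_
      refine Ideal.comap_injective_of_surjective (Ideal.Quotient.mk J) Ideal.Quotient.mk_surjective ?_
      rw [Ideal.comap_comap, Ideal.comap_comap]
      ext a
      rw [Ideal.mem_comap, Ideal.mem_comap]
      change Ideal.Quotient.mk (J.map (algebraMap A P)) (algebraMap A P a) ∈ _ ↔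
        Ideal.Quotient.mk (J.map (algebraMap A P)) (algebraMap A P a) ∈ _
      rw [Ideal.mem_quotient_iff_mem hJ']
      exact SetLike.ext_iff.1 heq a
    refine PrimeSpectrum.ext (le_antisymm hle fun a ha => (Ideal.mem_quotient_iff_mem hJ').1 ?_)
    rw [h1]
    exact ha
  let L := Localization.AtPrime 𝔓
  haveI : Algebra.FormallySmooth A L := hsm
  haveI : Module.Projective L (KaehlerDifferential A L) := inferInstance
  haveI : IsLocalizedModule 𝔓.primeCompl (KaehlerDifferential.map A A P L) := inferInstance
  obtain ⟨s, hs, σ, hσ⟩ := exists_section_away 𝔓 g hg (KaehlerDifferential.map A A P L)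
  obtain ⟨r, hr⟩ := exists_retraction_away d g hd he s σ hσ
  refine ⟨Ideal.Quotient.mk _ s, fun hm => hs hm, ?_⟩
  have hsx : Ideal.Quotient.mk (J.map (algebraMap A P)) s • x = 0 := by
    have h2 : ∀ y, (r.baseChange P') (d.baseChange P' y) = Ideal.Quotient.mk (J.map (algebraMap A P)) s • y := by
      intro y
      induction y using TensorProduct.induction_on with
      | zero => simp
      | tmul a c =>
        rw [LinearMap.baseChange_tmul, LinearMap.baseChange_tmul, hr, TensorProduct.tmul_smul,
          ← algebraMap_smul P' s]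
        rfl
      | add a b ha hb => rw [map_add, map_add, smul_add, ha, hb]
    rw [← h2, hx, map_zero]
  rw [← smul_eq_mul, ← map_smul, hsx, map_zero]

end Groth.Agent.LCIGenRel
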